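import Cfsg.Agent.H923.FC.Flag
import Cfsg.Agent.H10.FC.Fin

/-!
# S5764, reducible subgroups with a correlation (helper923)
-/

set_option autoImplicit false

namespace Cfsg.Agent.H923.FC

open Cfsg.Agent.H198.FC

universe u v

section dim

variable {K : Type u} [Field K] {V : Type v} [AddCommGroup V] [Module K V]

/-- `star f W` in terms of the correlation `g` -/
theorem mem_star_iff [Nontrivial V] {f : Equiv.Perm (R K V)} {g : V ≃+ Module.Dual K V}
    (hg : ∀ (X : R K V) (v w : V), g (X v) w = g v (f X w)) (W : Submodule K V) (w : V) :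
    w ∈ star f W ↔ ∀ u ∈ W, g u w = 0 := by
  constructor
  · intro h u hu
    obtain ⟨v, hv⟩ := exists_ne (0 : V)
    obtain ⟨φ, hφ⟩ := Cfsg.Agent.H277.FC.exists_dual_one (K := K) hv
    have h1 := h (φ.smulRight u) (fun v => W.smul_mem _ hu)
    have h2 := hg (φ.smulRight u) v w
    rw [h1, map_zero] at h2
    change g (φ v • u) w = 0 at h2
    rwa [hφ, one_smul] at h2
  · intro h X hX
    rw [← Module.forall_dual_apply_eq_zero_iff K]
    intro φ
    obtain ⟨v, rfl⟩ := g.surjective φ
    rw [← hg]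
    exact h _ (hX v)

theorem finrank_star [Finite K] [Module.Finite K V] [Nontrivial V] {f : Equiv.Perm (R K V)} {σ : K ≃+* K}
    {g : V ≃+ Module.Dual K V} (hσ : ∀ (a : K) (v : V), g (a • v) = σ a • g v)
    (hg : ∀ (X : R K V) (v w : V), g (X v) w = g v (f X w)) (W : Submodule K V) :
    Module.finrank K (star f W) + Module.finrank K W = Module.finrank K V := by
  let W' : Submodule K (Module.Dual K V) :=
    { carrier := {φ | g.symm φ ∈ W}
      zero_mem' := by
        change g.symm 0 ∈ W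
        rw [map_zero]
        exact W.zero_mem
      add_mem' := by
        intro a b ha hb
        change g.symm (a + b) ∈ W
        rw [map_add]
        exact W.add_mem ha hb
      smul_mem' := by
        intro c φ hφ
        change g.symm (c • φ) ∈ W
        have : g.symm (c • φ) = σ.symm c • g.symm φ := by
          apply g.injective
          rw [hσ]
          simp
        rw [this]
        exact W.smul_mem _ hφ }
  have h1 : star f W = W'.dualCoannihilator := by
    ext w
    rw [mem_star_iff hg, Submodule.mem_dualCoannihilator]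
    constructor
    · intro h φ hφ
      have := h (g.symm φ) hφ
      rwa [g.apply_symm_apply] at this
    · intro h u hu
      refine h (g u) ?_
      change g.symm (g u) ∈ W
      rwa [g.symm_apply_apply]
  have h2 : Module.finrank K W' = Module.finrank K W := by
    have e : W' ≃ W :=
      { toFun := fun φ => ⟨g.symm φ.1, φ.2⟩
        invFun := fun w => ⟨g w.1, by
          change g.symm (g w.1) ∈ W
          rw [g.symm_apply_apply]
          exact w.2⟩
        left_inv := fun φ => Subtype.ext (g.apply_symm_apply _)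
        right_inv := fun w => Subtype.ext (g.symm_apply_apply _) }
    have h3 := Nat.card_congr e
    have : Finite V := Module.finite_of_finite K
    rw [Module.natCard_eq_pow_finrank (K := K), Module.natCard_eq_pow_finrank (K := K) (V := W)] at h3
    exact Nat.pow_right_injective (Finite.one_lt_card_iff_nontrivial.2 inferInstance) h3
  rw [h1, ← h2, add_comm]
  exact Subspace.finrank_add_finrank_dualCoannihilator_eq W'

theorem exists_idm [Module.Finite K V] (A B : Submodule K V) (hAB : A ≤ B)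
    (hdim : Module.finrank K A + Module.finrank K B = Module.finrank K V) :
    ∃ e1 e2 e3 J L : R K V, Idm e1 e2 e3 J L ∧ (∀ v, e1 v ∈ A) ∧ (∀ v ∈ A, e1 v = v) ∧ (∀ v, e3 v = 0 ↔ v ∈ B) := by
  obtain ⟨q, hq, hq'⟩ := exists_proj B
  obtain ⟨p, hp, hp'⟩ := exists_proj A
  have hqp : q * p = p := LinearMap.ext fun v => hq' _ (hAB (hp v))
  have hpp : p * p = p := LinearMap.ext fun v => hp' _ (hp v)
  have hqq : q * q = q := LinearMap.ext fun v => hq' _ (hq v)
  have h3 : ∀ v, (1 - q) v = 0 ↔ v ∈ B := by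
    intro v
    rw [LinearMap.sub_apply, Module.End.one_apply, sub_eq_zero]
    exact ⟨fun h => h ▸ hq v, fun h => (hq' v h).symm⟩
  have hker : LinearMap.ker (1 - q) = B := Submodule.ext fun v => by rw [LinearMap.mem_ker, h3]
  have hr : Module.finrank K (LinearMap.range (1 - q)) = Module.finrank K A := by
    have := LinearMap.finrank_range_add_finrank_ker (1 - q)
    rw [hker] at this
    omega
  let l : A ≃ₗ[K] LinearMap.range (1 - q) := LinearEquiv.ofFinrankEq _ _ hr.symm
  have h33 : (1 - q) * (1 - q) = 1 - q := by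
    rw [mul_sub, mul_one, sub_mul, one_mul, hqq, sub_self, sub_zero]
  have h11 : p * q * (p * q) = p * q := by
    rw [mul_assoc, ← mul_assoc q, hqp, ← mul_assoc, hpp]
  have h33' : ∀ w : LinearMap.range (1 - q), (1 - q) (w : V) = w := by
    rintro ⟨_, v, rfl⟩
    exact LinearMap.congr_fun h33 v
  have h1A : ∀ a : A, (p * q) (a : V) = a := by
    intro a
    rw [Module.End.mul_apply, hq' _ (hAB a.2), hp' _ a.2]
  let L : R K V := (LinearMap.range (1 - q)).subtype ∘ₗ (l : A →ₗ[K] _) ∘ₗ
    (LinearMap.codRestrict A (p * q) (fun v => hp _))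
  let J : R K V := A.subtype ∘ₗ (l.symm : _ →ₗ[K] A) ∘ₗ (1 - q).rangeRestrict
  have hL : ∀ v, L v = (l ⟨(p * q) v, hp _⟩ : V) := fun v => rfl
  have hJ : ∀ v, J v = (l.symm ⟨(1 - q) v, v, rfl⟩ : V) := fun v => rfl
  have h13 : p * q * (1 - q) = 0 := by rw [mul_sub, mul_one, mul_assoc, hqq, sub_self]
  have h31 : (1 - q) * (p * q) = 0 := by rw [sub_mul, one_mul, ← mul_assoc, hqp, sub_self]
  refine ⟨p * q, q - p * q, 1 - q, J, L, ⟨h11, ?_, h33, ?_, h13, ?_, ?_, h31, ?_, ?_, ?_, ?_, ?_, ?_, ?_, ?_⟩,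
    fun v => hp _, fun v hv => h1A ⟨v, hv⟩, h3⟩
  · rw [mul_sub, sub_mul, sub_mul, hqq, h11, mul_assoc, hqq, ← mul_assoc, hqp, sub_self, sub_zero]
  · rw [mul_sub, h11, mul_assoc, hqq, sub_self]
  · rw [sub_mul, h11, ← mul_assoc, hqp, sub_self]
  · rw [sub_mul, h13, sub_zero, mul_sub, mul_one, hqq, sub_self]
  · rw [mul_sub, h31, sub_zero, sub_mul, one_mul, hqq, sub_self]
  · abel
  · ext v
    exact h1A ⟨J v, (l.symm _).2⟩
  · ext v
    rw [Module.End.mul_apply, hJ, hJ]
    have : (⟨(1 - q) ((1 - q) v), (1 - q) v, rfl⟩ : LinearMap.range (1 - q)) = ⟨(1 - q) v, v, rfl⟩ :=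
      Subtype.ext (LinearMap.congr_fun h33 v)
    rw [this]
  · ext v
    exact h33' ⟨L v, (l _).2⟩
  · ext v
    rw [Module.End.mul_apply, hL, hL]
    have : (⟨(p * q) ((p * q) v), hp _⟩ : A) = ⟨(p * q) v, hp _⟩ := Subtype.ext (LinearMap.congr_fun h11 v)
    rw [this]
  · ext v
    rw [Module.End.mul_apply, hJ]
    have : (⟨(1 - q) (L v), L v, rfl⟩ : LinearMap.range (1 - q)) = l ⟨(p * q) v, hp _⟩ := Subtype.ext (h33' ⟨L v, (l _).2⟩)
    rw [this, l.symm_apply_apply]
  · ext v
    rw [Module.End.mul_apply, hL]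
    have : (⟨(p * q) (J v), hp _⟩ : A) = l.symm ⟨(1 - q) v, v, rfl⟩ := Subtype.ext (h1A ⟨J v, (l.symm _).2⟩)
    rw [this, l.apply_symm_apply]

end dim

section main

variable {K : Type u} [Field K] {V : Type v} [AddCommGroup V] [Module K V]

theorem Lat.inv {S : Subgroup (Equiv.Perm (R K V))} {W : Submodule K V} (h : Lat S W) {f : Equiv.Perm (R K V)}
    (hf : f ∈ S) (hfP : f ∈ RP K V) : Stb f⁻¹ W := h _ (inv_mem hf) (inv_mem hfP)

/-- The final case: the existence of a non-zero invariant flag. -/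
theorem flag_case [Finite K] [Module.Finite K V] (S : Subgroup (Equiv.Perm (R K V))) (hS : S ≤ RA K V)
    (h3 : 3 ≤ Module.finrank K V) (hsol : Group.IsSolvable S) {A B : Submodule K V} (hA0 : A ≠ ⊥) (hAB : A ≤ B)
    (hdim : Module.finrank K A + Module.finrank K B = Module.finrank K V) (hA : Lat S A) (hB : Lat S B)
    (hcA : ∀ f ∈ S, f ∉ RP K V → Cor f A B) (hcB : ∀ f ∈ S, f ∉ RP K V → Cor f B A)
    (hcr : ∀ C : Submodule K V, A ≤ C → C ≤ B → Lat S C →
      ∃ C' : Submodule K V, A ≤ C' ∧ C' ≤ B ∧ Lat S C' ∧ C ⊓ C' = A ∧ C ⊔ C' = B) : Five S := by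
  classical
  have : Nontrivial V := Module.nontrivial_of_finrank_pos (R := K) (by omega)
  have hfV : Finite V := Module.finite_of_finite K
  obtain ⟨S', hS'1, hS'2, hS'3, hS'4, hS'5, -⟩ := Cfsg.Agent.H200.FC.stmtBridge_of.{u, v} Cfsg.Agent.H277.FC.stmtSN
    K V (by omega) (S ⊓ RP K V) inf_le_right
    (Group.isSolvable_of_isSolvable_injective (f := Subgroup.inclusion (inf_le_left : S ⊓ RP K V ≤ S))
      (Subgroup.inclusion_injective _))
  have hSN := Cfsg.Agent.H277.FC.stmtSN.{u, v} K V (by omega)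
  have hLat : ∀ W : Submodule K V, Lat S W ↔ ∀ g ∈ S', ∀ w ∈ W, g w ∈ W := by
    intro W
    constructor
    · exact fun h => hS'5 W fun f hf => h f hf.1 hf.2
    · intro h f hf hfP X hX v
      obtain ⟨g, hg, hgf⟩ := hSN f hfP
      have hg' : g ∈ S' := (hS'4 g hg).2 ⟨f, ⟨hf, hfP⟩, hgf⟩
      obtain ⟨w, rfl⟩ := g.surjective v
      rw [hgf]
      exact h g hg' _ (hX w)
  obtain ⟨w, hwB, hw⟩ := base_sec hS'1 hS'2 hS'3 hAB ((hLat A).1 hA) ((hLat B).1 hB) (by
    intro C hAC hCB hC
    obtain ⟨C', h1, h2, h3, h4, h5⟩ := hcr C hAC hCB ((hLat C).2 hC)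
    exact ⟨C', h1, h2, (hLat C').1 h3, h4, h5⟩)
  obtain ⟨e1, e2, e3, J, L, hI, h1A, h1A', h3B⟩ := exists_idm A B hAB hdim
  have hr : LinearMap.range e1 = A := by
    ext v
    constructor
    · rintro ⟨w, rfl⟩
      exact h1A w
    · exact fun h => ⟨v, h1A' v h⟩
  have he0 : e1 ≠ 0 := by
    intro h
    rw [h, LinearMap.range_zero] at hr
    exact hA0 hr.symm
  obtain ⟨β, b0, Y, hsh, hY⟩ := exists_shift hI.h11 he0
  -- `im X ⊆ A`
  have imA : ∀ X : R K V, e1 * X = X ↔ ∀ v, X v ∈ A := by
    intro X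
    constructor
    · intro h v
      rw [← h]
      exact h1A _
    · exact fun h => LinearMap.ext fun v => h1A' _ (h v)
  have imB : ∀ X : R K V, e3 * X = 0 ↔ ∀ v, X v ∈ B := by
    intro X
    constructor
    · intro h v
      exact (h3B _).1 (LinearMap.congr_fun h v)
    · exact fun h => LinearMap.ext fun v => (h3B _).2 (h v)
  have he2B : ∀ v, e2 v ∈ B := fun v => (h3B _).1 (LinearMap.congr_fun hI.h32 v)
  -- the vectors `u i`
  have hz : ∃ z : V, e2 ≠ 0 → e2 z ≠ 0 := by
    by_cases h : e2 = 0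
    · exact ⟨0, fun h' => absurd h h'⟩
    · by_contra hcon
      push Not at hcon
      exact h (LinearMap.ext fun v => (hcon v).2)
  obtain ⟨z, hz⟩ := hz
  let u : Fin 3 → V := fun i => if e2 (w i) = 0 then e2 z else e2 (w i)
  have h22 : ∀ v, e2 (e2 v) = e2 v := fun v => LinearMap.congr_fun hI.h22 v
  refine five_flag S hS hSN hI hsh ?_ ?_ ?_ (u := u) ?_ ?_ ?_
  · intro h
    refine hY ?_
    rw [hr]
    have hBA : B ≤ A := by
      intro v hv
      have h5 : v = e1 v + e2 v + e3 v := (LinearMap.congr_fun hI.hs v).symm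
      rw [(h3B v).2 hv, h, LinearMap.zero_apply, add_zero, add_zero] at h5
      rw [h5]
      exact h1A v
    have : A = B := le_antisymm hAB hBA
    rw [← this] at hdim
    omega
  · intro f hf hfP
    constructor
    · intro X hX
      exact (imA _).2 (hA f hf hfP X ((imA X).1 hX))
    · intro X hX
      exact (imB _).2 (hB f hf hfP X ((imB X).1 hX))
  · intro f hf hfP
    constructor
    · intro X hX
      have h5 := hcA f hf hfP X ((imA X).1 hX)
      have h6 : f X * (e1 + e2) = 0 := LinearMap.ext fun v => h5 _ (B.add_mem (hAB (h1A v)) (he2B v))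
      have h7 : f X = f X * (e1 + e2) + f X * e3 := by rw [← mul_add, hI.hs, mul_one]
      rw [h6, zero_add] at h7
      exact h7.symm
    · intro X hX
      have h5 := hcB f hf hfP X ((imB X).1 hX)
      exact LinearMap.ext fun v => h5 _ (h1A v)
  · intro i
    by_cases h : e2 (w i) = 0
    · simp only [u, if_pos h, h22]
    · simp only [u, if_neg h, h22]
  · intro h
    by_cases h' : e2 (w 0) = 0
    · simp only [u, if_pos h']
      exact hz h
    · simp only [u, if_neg h']
      exact h'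
  · intro f hf hfP g hg hgf hg1 hg2 hgu v
    have hg' : g ∈ S' := (hS'4 g hg).2 ⟨f, ⟨hf, hfP⟩, hgf⟩
    have hg0 : g 0 = 0 := semi_zero hS'1 hg'
    have h5 : ∀ i, g (w i) - w i ∈ A := by
      intro i
      have h6 : w i = e1 (w i) + e2 (w i) := by
        have h7 : w i = e1 (w i) + e2 (w i) + e3 (w i) := (LinearMap.congr_fun hI.hs (w i)).symm
        rwa [(h3B _).2 (hwB i), add_zero] at h7
      have h8 : g (e2 (w i)) = e2 (w i) := by
        by_cases h : e2 (w i) = 0
        · rw [h, hg0]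
        · have := hgu i
          simp only [u, if_neg h] at this
          exact this
      have h9 : g (w i) - w i = e1 (g (w i) - w i) := by
        have h10 : g (w i) = e1 (g (w i)) + e2 (w i) := by
          conv_lhs => rw [h6]
          rw [hg.1, h8, hg1]
        calc g (w i) - w i = (e1 (g (w i)) + e2 (w i)) - (e1 (w i) + e2 (w i)) := by rw [← h10, ← h6]
          _ = e1 (g (w i)) - e1 (w i) := by abel
          _ = e1 (g (w i) - w i) := (map_sub _ _ _).symm
      rw [h9]
      exact h1A _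
    have h11 := hw g hg' h5 (e2 v) (he2B v)
    have h12 := h1A' _ h11
    have h13 : e1 (e2 v) = 0 := LinearMap.congr_fun hI.h12 v
    rw [map_sub, ← hg1, h13, hg0, sub_zero] at h12
    exact (sub_eq_zero.1 h12.symm)

/-- the completely reducible case (helper10) -/
def StmtG4 : Prop :=
  ∀ (K : Type u) [Field K] [Finite K] (V : Type v) [AddCommGroup V] [Module K V] [Module.Finite K V]
    (S : Subgroup (Equiv.Perm (R K V))), S ≤ RA K V → 3 ≤ Module.finrank K V → Group.IsSolvable S →
    (∃ W : Submodule K V, W ≠ ⊥ ∧ W ≠ ⊤ ∧ ∀ f ∈ S, f ∈ RP K V → Stb f W) →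
    (∀ W : Submodule K V, (∀ f ∈ S, f ∈ RP K V → Stb f W) → ∃ W' : Submodule K V,
      (∀ f ∈ S, f ∈ RP K V → Stb f W') ∧ W ⊓ W' = ⊥ ∧ W ⊔ W' = ⊤) → Five S

theorem stmtRedCor_of (hG4 : StmtG4.{u, v}) : StmtRedCor.{u, v} := by
  intro K _ _ V _ _ _ S hS h3 hsol hκ hred
  obtain ⟨κ, hκ, hκP⟩ := hκ
  have : Nontrivial V := Module.nontrivial_of_finrank_pos (R := K) (by omega)
  obtain ⟨σ, g, hσ, hg⟩ := Cfsg.Agent.H277.FC.stmtSNcor.{u, v} K V (by omega) κ (hS hκ) (anti_mul hS hκ hκP)
  have hdim : ∀ W : Submodule K V, Module.finrank K (star κ W) + Module.finrank K W = Module.finrank K V :=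
    finrank_star hσ hg
  have hss : ∀ W : Submodule K V, Lat S W → star κ (star κ W) = W := by
    intro W hW
    refine (Submodule.eq_of_le_of_finrank_eq (le_star_star hS hκ hκP hW) ?_).symm
    have h1 := hdim W
    have h2 := hdim (star κ W)
    omega
  have hst : ∀ W : Submodule K V, Lat S W → Lat S (star κ W) := fun W hW => Lat.star hS hκ hκP hW
  have hself : ∀ C : Submodule K V, C ⊓ star κ C ≤ star κ (C ⊓ star κ C) := fun C =>
    inf_le_right.trans (star_anti κ inf_le_left)
  obtain ⟨A, ⟨hA, hAA⟩, hmax⟩ := (wellFounded_gt (α := Submodule K V)).has_min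
    {A : Submodule K V | Lat S A ∧ A ≤ star κ A} ⟨⊥, fun f hf hfP X hX v => by
      have : X = 0 := LinearMap.ext fun v => hX v
      rw [this, add0 hfP.1]
      exact Submodule.zero_mem _, bot_le⟩
  -- complete reducibility between `A` and `A*`
  have hcr : ∀ C : Submodule K V, A ≤ C → C ≤ star κ A → Lat S C →
      A ≤ star κ C ∧ star κ C ≤ star κ A ∧ Lat S (star κ C) ∧ C ⊓ star κ C = A ∧ C ⊔ star κ C = star κ A := by
    intro C hAC hCB hC
    have h1 : A ≤ star κ C := by
      have := star_anti κ hCB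
      rwa [hss A hA] at this
    have h2 : star κ C ≤ star κ A := star_anti κ hAC
    have h4 : C ⊓ star κ C = A := by
      by_contra hne
      exact hmax _ ⟨hC.inf (hst C hC), hself C⟩ (lt_of_le_of_ne (le_inf hAC h1) (Ne.symm hne))
    refine ⟨h1, h2, hst C hC, h4, Submodule.eq_of_le_of_finrank_eq (sup_le hCB h2) ?_⟩
    have h5 := Submodule.finrank_sup_add_finrank_inf_eq C (star κ C)
    rw [h4] at h5
    have h6 := hdim C
    have h7 := hdim A
    omega
  by_cases hA0 : A = ⊥
  · subst hA0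
    refine hG4 K V S hS h3 hsol hred fun W hW => ?_
    have htop : star κ (⊥ : Submodule K V) = ⊤ := by
      rw [eq_top_iff]
      intro w _ X hX
      have : X = 0 := LinearMap.ext fun v => hX v
      rw [this, add0 (hS hκ).1]
      rfl
    obtain ⟨-, -, h6, h7, h8⟩ := hcr W bot_le (by rw [htop]; exact le_top) hW
    exact ⟨star κ W, h6, h7, h8.trans htop⟩
  · refine flag_case S hS h3 hsol hA0 hAA ?_ hA (hst A hA) (fun f hf hfP => cor_star hS hκ hκP hA hf hfP)
      (fun f hf hfP => ?_) (fun C h1 h2 h4 => ⟨star κ C, hcr C h1 h2 h4⟩)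
    · have := hdim A
      omega
    · have := cor_star hS hκ hκP (hst A hA) hf hfP
      rwa [hss A hA] at this

/-- **S5764, StmtRedCor** -/
theorem stmtRedCor : StmtRedCor.{u, v} :=
  stmtRedCor_of fun _ _ _ _ _ _ _ S hS h3 hsol hred hcr => Cfsg.Agent.H10.FC.stmtG4 S hS h3 hsol hred hcr

end main

end Cfsg.Agent.H923.FC
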