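import Cfsg.Agent.H923.FC.Base

/-!
# S5764, reducible subgroups with a correlation, the case of a non-zero flag `A ≤ A*` (helper923)
-/

set_option autoImplicit false

namespace Cfsg.Agent.H923.FC

open Cfsg.Agent.H198.FC

universe u v

section ring

variable {Q : Type*} [Ring Q]

/-- idempotents of a decomposition `V = A ⊕ M ⊕ A'` together with isomorphisms `J : A' → A`, `L = J⁻¹` -/
structure Idm (e1 e2 e3 J L : Q) : Prop where
  h11 : e1 * e1 = e1
  h22 : e2 * e2 = e2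
  h33 : e3 * e3 = e3
  h12 : e1 * e2 = 0
  h13 : e1 * e3 = 0
  h21 : e2 * e1 = 0
  h23 : e2 * e3 = 0
  h31 : e3 * e1 = 0
  h32 : e3 * e2 = 0
  hs : e1 + e2 + e3 = 1
  h1J : e1 * J = J
  hJ3 : J * e3 = J
  h3L : e3 * L = L
  hL1 : L * e1 = L
  hJL : J * L = e1
  hLJ : L * J = e3

namespace Idm

variable {e1 e2 e3 J L : Q} (h : Idm e1 e2 e3 J L)
include h

theorem h2J : e2 * J = 0 := by rw [← h.h1J, ← mul_assoc, h.h21, zero_mul]
theorem h3J : e3 * J = 0 := by rw [← h.h1J, ← mul_assoc, h.h31, zero_mul]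
theorem hJ1 : J * e1 = 0 := by rw [← h.hJ3, mul_assoc, h.h31, mul_zero]
theorem hJ2 : J * e2 = 0 := by rw [← h.hJ3, mul_assoc, h.h32, mul_zero]
theorem h1L : e1 * L = 0 := by rw [← h.h3L, ← mul_assoc, h.h13, zero_mul]
theorem h2L : e2 * L = 0 := by rw [← h.h3L, ← mul_assoc, h.h23, zero_mul]
theorem hL3 : L * e3 = 0 := by rw [← h.hL1, mul_assoc, h.h13, mul_zero]
theorem hL2 : L * e2 = 0 := by rw [← h.hL1, mul_assoc, h.h12, mul_zero]
theorem hJJ : J * J = 0 := by
  have : J * J = J * e3 * J := by rw [h.hJ3]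
  rw [this, mul_assoc, h.h3J, mul_zero]
theorem hLL : L * L = 0 := by
  have : L * L = L * e1 * L := by rw [h.hL1]
  rw [this, mul_assoc, h.h1L, mul_zero]

theorem hJJ' : -J * -J = 0 := by rw [neg_mul_neg, h.hJJ]

/-- the unit `e2 - J + L` -/
def x : Qˣ := un (-J) h.hJJ' * un L h.hLL * un (-J) h.hJJ'

theorem x_val : (h.x : Q) = e2 - J + L := by
  have h1 : (h.x : Q) = (1 + -J) * (1 + L) * (1 + -J) := rfl
  have h2 : (1 : Q) = e1 + e2 + e3 := h.hs.symm
  have h3 : (1 + -J) * (1 + L) * (1 + -J) = 1 - J - J + L + J * J - J * L - L * J + J * L * J := by noncomm_ring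
  rw [h1, h3, h.hJJ, h.hJL, h.hLJ, h.h1J, h2]
  abel

theorem x1 : e1 * (h.x : Q) = h.x * e3 := by
  rw [h.x_val, mul_add, mul_sub, add_mul, sub_mul, h.h12, h.h1J, h.h1L, h.h23, h.hJ3, h.hL3]

theorem x3 : e3 * (h.x : Q) = h.x * e1 := by
  rw [h.x_val, mul_add, mul_sub, add_mul, sub_mul, h.h32, h.h3J, h.h3L, h.h21, h.hJ1, h.hL1]

theorem x2 : e2 * (h.x : Q) = h.x * e2 := by
  rw [h.x_val, mul_add, mul_sub, add_mul, sub_mul, h.h22, h.h2J, h.h2L, h.hJ2, h.hL2]

theorem x1' : ((h.x⁻¹ : Qˣ) : Q) * e1 = e3 * (h.x⁻¹ : Qˣ) := by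
  rw [Units.inv_mul_eq_iff_eq_mul, ← mul_assoc, ← h.x1, mul_assoc, Units.mul_inv, mul_one]

theorem x3' : ((h.x⁻¹ : Qˣ) : Q) * e3 = e1 * (h.x⁻¹ : Qˣ) := by
  rw [Units.inv_mul_eq_iff_eq_mul, ← mul_assoc, ← h.x3, mul_assoc, Units.mul_inv, mul_one]

end Idm

end ring

section perm

variable {K : Type u} [Field K] {V : Type v} [AddCommGroup V] [Module K V]

theorem cj_conj (x : (R K V)ˣ) (f : Equiv.Perm (R K V)) (Z : R K V) :
    (cj K V x * f * (cj K V x)⁻¹) (x * Z * (x⁻¹ : (R K V)ˣ)) = x * f Z * (x⁻¹ : (R K V)ˣ) := by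
  have h1 : (cj K V x)⁻¹ (x * Z * (x⁻¹ : (R K V)ˣ)) = Z := by
    rw [← cj_apply, inv_app]
  change cj K V x (f ((cj K V x)⁻¹ (x * Z * (x⁻¹ : (R K V)ˣ)))) = _
  rw [h1, cj_apply]

theorem conj_RP {f : Equiv.Perm (R K V)} (x : (R K V)ˣ) (hf : f ∈ RP K V) :
    cj K V x * f * (cj K V x)⁻¹ ∈ RP K V :=
  mul_mem (mul_mem (cj_mem_RP x) hf) (inv_mem (cj_mem_RP x))

theorem conj_not {f : Equiv.Perm (R K V)} (x : (R K V)ˣ) (hf : f ∉ RP K V) :
    cj K V x * f * (cj K V x)⁻¹ ∉ RP K V := fun h => hf (by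
  have := mul_mem (mul_mem (inv_mem (cj_mem_RP x)) h) (cj_mem_RP x)
  simpa [mul_assoc] using this)

theorem f_one {f : Equiv.Perm (R K V)} (hf : f ∈ RP K V) : f 1 = 1 := by
  obtain ⟨Z, hZ⟩ := f.surjective 1
  have := hf.2 1 Z
  rw [one_mul, hZ, mul_one] at this
  exact this.symm

theorem anti_one {f : Equiv.Perm (R K V)} (h : ∀ X Y, f (X * Y) = f Y * f X) : f 1 = 1 := by
  obtain ⟨Z, hZ⟩ := f.surjective 1
  have := h 1 Z
  rw [one_mul, hZ, one_mul] at this
  exact this.symm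

theorem f_sub {f : Equiv.Perm (R K V)} (h : ∀ X Y, f (X + Y) = f X + f Y) (X Y : R K V) :
    f (X - Y) = f X - f Y := by
  rw [eq_sub_iff_add_eq, ← h, sub_add_cancel]

variable {e1 e2 e3 J L : R K V} (h : Idm e1 e2 e3 J L)

/-- the conditions on the elements of `S ∩ RP` -/
def St (e1 e3 : R K V) (f : Equiv.Perm (R K V)) : Prop :=
  (∀ X, e1 * X = X → e1 * f X = f X) ∧ ∀ X, e3 * X = 0 → e3 * f X = 0

/-- the conditions on the correlations -/
def Co (e1 e3 : R K V) (f : Equiv.Perm (R K V)) : Prop :=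
  (∀ X, e1 * X = X → f X * e3 = f X) ∧ ∀ X, e3 * X = 0 → f X * e1 = 0

omit h in
theorem e_one (h : Idm e1 e2 e3 J L) : 1 - e3 = e1 + e2 ∧ 1 - e1 = e2 + e3 := by
  rw [← h.hs]
  constructor <;> abel

/-- the conditions on the unit `x` -/
structure Xu (e1 e2 e3 : R K V) (x : (R K V)ˣ) : Prop where
  x1 : e1 * (x : R K V) = x * e3
  x2 : e2 * (x : R K V) = x * e2
  x3 : e3 * (x : R K V) = x * e1
  x1' : ((x⁻¹ : (R K V)ˣ) : R K V) * e1 = e3 * (x⁻¹ : (R K V)ˣ)
  x3' : ((x⁻¹ : (R K V)ˣ) : R K V) * e3 = e1 * (x⁻¹ : (R K V)ˣ)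
  hx1 : (x : R K V) * e3 * (x⁻¹ : (R K V)ˣ) = e1
  hx2 : (x : R K V) * (e2 + e3) * (x⁻¹ : (R K V)ˣ) = e1 + e2

theorem Idm.xu : Xu e1 e2 e3 h.x := ⟨h.x1, h.x2, h.x3, h.x1', h.x3',
  by rw [← h.x1, mul_assoc, Units.mul_inv, mul_one],
  by rw [mul_add, ← h.x1, ← h.x2, ← add_mul, mul_assoc, Units.mul_inv, mul_one, add_comm]⟩

include h

theorem step1 {x : (R K V)ˣ} (hx : Xu e1 e2 e3 x) {f : Equiv.Perm (R K V)} (hf : f ∈ RP K V) (h1 : St e1 e3 f)
    (h2 : St e1 e3 (cj K V x * f * (cj K V x)⁻¹)) : f e1 = e1 ∧ f e2 = e2 ∧ f e3 = e3 := by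
  -- `f e3 = e3`
  have a1 := h2.1 e1 h.h11
  have a0 := cj_conj x f e3
  rw [hx.hx1] at a0
  rw [a0, ← mul_assoc, ← mul_assoc, hx.x1, Units.mul_left_inj, mul_assoc, Units.mul_right_inj] at a1
  have a1' : e3 * f e3 = f e3 := a1
  have a2 := h1.2 (1 - e3) (by rw [mul_sub, mul_one, h.h33, sub_self])
  rw [f_sub hf.1, f_one hf, mul_sub, mul_one, a1', sub_eq_zero] at a2
  -- `f e1 = e1`
  have b1 := h2.2 (e1 + e2) (by rw [mul_add, h.h31, h.h32, add_zero])
  have b0 := cj_conj x f (e2 + e3)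
  rw [hx.hx2] at b0
  rw [b0, ← mul_assoc, ← mul_assoc, hx.x3, mul_assoc, mul_assoc] at b1
  have b1' : e1 * f (e2 + e3) = 0 := by
    have h3 : (x : R K V) * (e1 * (f (e2 + e3) * ((x⁻¹ : (R K V)ˣ) : R K V))) = x * 0 := by rw [b1, mul_zero]
    have := (Units.mul_right_inj x).1 h3
    rw [← mul_assoc] at this
    have h4 : e1 * f (e2 + e3) * ((x⁻¹ : (R K V)ˣ) : R K V) = 0 * ((x⁻¹ : (R K V)ˣ) : R K V) := by
      rw [this, zero_mul]
    exact (Units.mul_left_inj x⁻¹).1 h4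
  have b2 := h1.1 e1 h.h11
  have b3 : f (e2 + e3) = 1 - f e1 := by rw [← (e_one h).2, f_sub hf.1, f_one hf]
  rw [b3, mul_sub, mul_one, b2, sub_eq_zero] at b1'
  have c3 : f e2 = e2 := by
    have : e2 = 1 - e1 - e3 := by rw [← h.hs]; abel
    rw [this, f_sub hf.1, f_sub hf.1, f_one hf, ← b1', ← a2]
  exact ⟨b1'.symm, c3, a2.symm⟩

theorem step1' {x : (R K V)ˣ} (hx : Xu e1 e2 e3 x) {f : Equiv.Perm (R K V)} (hf : ∀ X Y, f (X + Y) = f X + f Y)
    (ha : ∀ X Y, f (X * Y) = f Y * f X) (h1 : Co e1 e3 f) (h2 : Co e1 e3 (cj K V x * f * (cj K V x)⁻¹)) :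
    f e1 = e3 ∧ f e2 = e2 ∧ f e3 = e1 := by
  -- `f e3 = e1`
  have a1 := h2.1 e1 h.h11
  have a0 := cj_conj x f e3
  rw [hx.hx1] at a0
  rw [a0, mul_assoc, hx.x3', ← mul_assoc] at a1
  have a1' : f e3 * e1 = f e3 := by
    have := (Units.mul_left_inj x⁻¹).1 a1
    rw [mul_assoc] at this
    exact (Units.mul_right_inj x).1 this
  have a2 := h1.2 (1 - e3) (by rw [mul_sub, mul_one, h.h33, sub_self])
  rw [f_sub hf, anti_one ha, sub_mul, one_mul, a1', sub_eq_zero] at a2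
  -- `f e1 = e3`
  have b1 := h2.2 (e1 + e2) (by rw [mul_add, h.h31, h.h32, add_zero])
  have b0 := cj_conj x f (e2 + e3)
  rw [hx.hx2] at b0
  rw [b0, mul_assoc, hx.x1', ← mul_assoc] at b1
  have b1' : f (e2 + e3) * e3 = 0 := by
    have h3 : (x : R K V) * f (e2 + e3) * e3 * ((x⁻¹ : (R K V)ˣ) : R K V) = 0 * ((x⁻¹ : (R K V)ˣ) : R K V) := by
      rw [b1, zero_mul]
    have := (Units.mul_left_inj x⁻¹).1 h3
    have h4 : (x : R K V) * (f (e2 + e3) * e3) = (x : R K V) * 0 := by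
      rw [← mul_assoc, this, mul_zero]
    exact (Units.mul_right_inj x).1 h4
  have b2 := h1.1 e1 h.h11
  have b3 : f (e2 + e3) = 1 - f e1 := by rw [← (e_one h).2, f_sub hf, anti_one ha]
  rw [b3, sub_mul, one_mul, b2, sub_eq_zero] at b1'
  have c3 : f e2 = e2 := by
    have : e2 = 1 - e1 - e3 := by rw [← h.hs]; abel
    rw [this, f_sub hf, f_sub hf, anti_one ha, ← b1', ← a2, ← h.hs]
    abel
  exact ⟨b1'.symm, c3, a2.symm⟩

omit h in
theorem hZ {x : (R K V)ˣ} (hx : Xu e1 e2 e3 x) {N : R K V} (hN3 : N * e3 = N) (h3N : e3 * N = 0) (hNN : -N * -N = 0) :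
    ((x * un (-N) hNN : (R K V)ˣ) : R K V) * (e3 + N) * ((x * un (-N) hNN)⁻¹ : (R K V)ˣ) = e1 := by
  have hN2 : N * N = 0 := by rw [← neg_mul_neg, hNN]
  have hw : ((un (-N) hNN : (R K V)ˣ) : R K V) = 1 + -N := rfl
  rw [Units.mul_inv_eq_iff_eq_mul, Units.val_mul, mul_assoc (x : R K V), ← mul_assoc e1, hx.x1,
    mul_assoc (x : R K V) e3]
  congr 1
  rw [hw]
  have : (1 + -N) * (e3 + N) = e3 + N - N * e3 - N * N := by noncomm_ring
  rw [this, hN3, hN2, mul_add, mul_one, mul_neg, h3N]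
  abel

/-- step 2 for ring automorphisms -/
theorem step2 {x : (R K V)ˣ} (hx : Xu e1 e2 e3 x) {f : Equiv.Perm (R K V)} (hf : f ∈ RP K V)
    (hf3 : f e3 = e3) {N : R K V} (hN3 : N * e3 = N) (h3N : e3 * N = 0) (hNN : -N * -N = 0)
    (h1 : St e1 e3 (cj K V (x * un (-N) hNN) * f * (cj K V (x * un (-N) hNN))⁻¹)) : f N = N := by
  have hw : ((un (-N) hNN : (R K V)ˣ) : R K V) = 1 + -N := rfl
  have a1 := h1.1 e1 h.h11
  have a0 := cj_conj (x * un (-N) hNN) f (e3 + N)
  rw [hZ hx hN3 h3N hNN] at a0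
  rw [a0, ← mul_assoc, Units.mul_left_inj, ← mul_assoc, Units.val_mul, ← mul_assoc, hx.x1, mul_assoc, mul_assoc,
    mul_assoc, Units.mul_right_inj, hf.1, hf3, ← mul_assoc, hw] at a1
  have b1 : e3 * f N = 0 := by
    have := congrArg f h3N
    rwa [hf.2, hf3, add0 hf.1] at this
  have b2 : N * f N = 0 := by
    have : N * e3 * f N = N * f N := by rw [hN3]
    rw [← this, mul_assoc, b1, mul_zero]
  have b3 : e3 * (1 + -N) * (e3 + f N) = e3 := by
    have : e3 * (1 + -N) * (e3 + f N) = (e3 - e3 * N) * (e3 + f N) := by noncomm_ring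
    rw [this, h3N, sub_zero, mul_add, h.h33, b1, add_zero]
  have b4 : (1 + -N) * (e3 + f N) = e3 + f N - N * e3 - N * f N := by noncomm_ring
  rw [b3, b4, hN3, b2, sub_zero, add_sub_assoc, left_eq_add, sub_eq_zero] at a1
  exact a1

/-- step 2 for anti-automorphisms -/
theorem step2' {x : (R K V)ˣ} (hx : Xu e1 e2 e3 x) {f : Equiv.Perm (R K V)} (hf : ∀ X Y, f (X + Y) = f X + f Y)
    (ha : ∀ X Y, f (X * Y) = f Y * f X) (hf2 : f e2 = e2)
    (hf3 : f e3 = e1) {N : R K V} (hN3 : N * e3 = N) (h3N : e3 * N = 0) (hNN : -N * -N = 0)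
    (h1 : Co e1 e3 (cj K V (x * un (-N) hNN) * f * (cj K V (x * un (-N) hNN))⁻¹)) :
    f N = -(e1 * N) ∧ e2 * N = 0 := by
  have hwi : (((un (-N) hNN)⁻¹ : (R K V)ˣ) : R K V) = 1 - -N := rfl
  have a1 := h1.1 e1 h.h11
  have a0 := cj_conj (x * un (-N) hNN) f (e3 + N)
  rw [hZ hx hN3 h3N hNN] at a0
  have b1 : f N * e1 = 0 := by
    have := congrArg f h3N
    rwa [ha, hf3, add0 hf] at this
  have b2 : N * e1 = 0 := by
    have : N * e3 * e1 = N * e1 := by rw [hN3]
    rw [← this, mul_assoc, h.h31, mul_zero]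
  rw [a0, mul_assoc, mul_assoc, mul_assoc, Units.mul_right_inj, mul_inv_rev, Units.val_mul, mul_assoc, hx.x3',
    ← mul_assoc, ← mul_assoc, ← mul_assoc, Units.mul_left_inj, hf, hf3, hwi] at a1
  have b3 : (e1 + f N) * (1 - -N) * e1 = e1 := by
    have : (e1 + f N) * (1 - -N) * e1 = e1 * e1 + f N * e1 + (e1 + f N) * (N * e1) := by noncomm_ring
    rw [this, b1, b2, h.h11, mul_zero, add_zero, add_zero]
  have hN2 : N * N = 0 := by rw [← neg_mul_neg, hNN]
  rw [b3] at a1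
  have b4 : e1 * (1 - N) = (e1 + f N) * (1 - -N) * (1 - N) := by rw [← a1]
  have b5 : (e1 + f N) * (1 - -N) * (1 - N) = e1 + f N - (e1 + f N) * (N * N) := by noncomm_ring
  rw [b5, hN2, mul_zero, sub_zero, mul_sub, mul_one] at b4
  have b6 : f N = -(e1 * N) := by
    rw [sub_eq_add_neg] at b4
    exact (add_left_cancel b4).symm
  refine ⟨b6, f.injective ?_⟩
  rw [ha, b6, hf2, add0 hf, neg_mul, mul_assoc]
  have : N * e2 = 0 := by
    have : N * e3 * e2 = N * e2 := by rw [hN3]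
    rw [← this, mul_assoc, h.h32, mul_zero]
  rw [this, mul_zero, neg_zero]

end perm

section rigid

variable {K : Type u} [Field K] {V : Type v} [AddCommGroup V] [Module K V]

/-- coordinates `β i` on `A = range e1`, first basis vector `b0`, shift `Y` -/
structure Shift (e1 : R K V) (β : ℕ → V →ₗ[K] K) (b0 : V) (Y : R K V) : Prop where
  hb0 : e1 b0 = b0
  h0 : β 0 b0 = 1
  h1Y : e1 * Y = Y
  hβ1 : ∀ i v, β i (e1 v) = β i v
  hβY : ∀ i v, β i (Y v) = β (i + 1) v
  hco : ∀ v, (∀ i, β i v = 0) → e1 v = 0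
  hYb : Y b0 = 0

theorem exists_shift [Module.Finite K V] {e1 : R K V} (he : e1 * e1 = e1) (h0 : e1 ≠ 0) :
    ∃ (β : ℕ → V →ₗ[K] K) (b0 : V) (Y : R K V), Shift e1 β b0 Y ∧
      (2 ≤ Module.finrank K (LinearMap.range e1) → ∃ v, β 0 (Y v) ≠ 0) := by
  classical
  set A := LinearMap.range e1 with hA
  have he' : ∀ v, e1 (e1 v) = e1 v := fun v => LinearMap.congr_fun he v
  have hA0 : A ≠ ⊥ := fun h => h0 (LinearMap.range_eq_bot.1 h)
  have : Nontrivial A := Submodule.nontrivial_iff_ne_bot.2 hA0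
  have hn : 0 < Module.finrank K A := Module.finrank_pos
  let b := Module.finBasis K A
  let π : V →ₗ[K] A := e1.rangeRestrict
  have hπ : ∀ v, (π v : V) = e1 v := fun v => rfl
  have hA1 : ∀ a : A, e1 (a : V) = a := by
    rintro ⟨_, v, rfl⟩
    exact he' v
  have hπA : ∀ a : A, π (a : V) = a := fun a => Subtype.ext (hA1 a)
  let β : ℕ → V →ₗ[K] K := fun i => if h : i < Module.finrank K A then (b.coord ⟨i, h⟩) ∘ₗ π else 0
  have hβ : ∀ (i : ℕ) (h : i < Module.finrank K A) (v : V), β i v = b.repr (π v) ⟨i, h⟩ := by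
    intro i h v
    change (if h : i < Module.finrank K A then (b.coord ⟨i, h⟩) ∘ₗ π else 0 : V →ₗ[K] K) v = _
    rw [dif_pos h]
    rfl
  have hβ' : ∀ (i : ℕ) (h : ¬ i < Module.finrank K A) (v : V), β i v = 0 := by
    intro i h v
    change (if h : i < Module.finrank K A then (b.coord ⟨i, h⟩) ∘ₗ π else 0 : V →ₗ[K] K) v = _
    rw [dif_neg h]
    rfl
  have hβb : ∀ (i : ℕ) (j : Fin (Module.finrank K A)), β i (b j : V) = if i = j then 1 else 0 := by
    intro i j
    by_cases h : i < Module.finrank K A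
    · rw [hβ i h, hπA, b.repr_self, Finsupp.single_apply]
      by_cases hij : i = j
      · rw [if_pos hij, if_pos (Fin.ext hij.symm)]
      · rw [if_neg hij, if_neg (fun h' => hij (by rw [h']))]
    · rw [hβ' i h, if_neg]
      intro h'
      exact h (h' ▸ j.2)
  let Y : R K V := ∑ j : Fin (Module.finrank K A), (β (j + 1)).smulRight (b j : V)
  have hY : ∀ v, Y v = ∑ j : Fin (Module.finrank K A), β (j + 1) v • (b j : V) := by
    intro v
    simp [Y, LinearMap.sum_apply]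
  have hβY : ∀ i v, β i (Y v) = β (i + 1) v := by
    intro i v
    rw [hY, map_sum]
    by_cases h : i < Module.finrank K A
    · rw [Finset.sum_eq_single ⟨i, h⟩]
      · rw [map_smul, hβb, if_pos rfl, smul_eq_mul, mul_one]
      · intro j _ hj
        rw [map_smul, hβb, if_neg (fun h' => hj (Fin.ext h'.symm)), smul_zero]
      · intro h'
        exact absurd (Finset.mem_univ _) h'
    · rw [hβ' (i + 1) (fun h' => h (by omega))]
      refine Finset.sum_eq_zero fun j _ => ?_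
      rw [hβ' i h]
  refine ⟨β, b ⟨0, hn⟩, Y, ⟨hA1 _, ?_, ?_, ?_, hβY, ?_, ?_⟩, ?_⟩
  · rw [hβb, if_pos rfl]
  · ext v
    rw [Module.End.mul_apply, hY, map_sum]
    refine Finset.sum_congr rfl fun j _ => ?_
    rw [map_smul, hA1]
  · intro i v
    by_cases h : i < Module.finrank K A
    · rw [hβ i h, hβ i h]
      have : π (e1 v) = π v := Subtype.ext (he' v)
      rw [this]
    · rw [hβ' i h, hβ' i h]
  · intro v hv
    have : π v = 0 := by
      refine b.ext_elem fun i => ?_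
      rw [map_zero, Finsupp.zero_apply, ← hβ i.1 i.2]
      exact hv _
    rw [← hπ, this]
    rfl
  · rw [hY]
    refine Finset.sum_eq_zero fun j _ => ?_
    rw [hβb, if_neg (by simp), zero_smul]
  · intro h2
    refine ⟨b ⟨1, by omega⟩, ?_⟩
    rw [hβY, hβb, if_pos rfl]
    exact one_ne_zero

theorem rigid {e1 : R K V} {β : ℕ → V →ₗ[K] K} {b0 : V} {Y : R K V} (h : Shift e1 β b0 Y) (he : e1 * e1 = e1)
    {γ : K} (hγ0 : γ ≠ 0) (hγ : ∀ σ : K ≃+* K, σ γ = γ → ∀ a, σ a = a) {g : Equiv.Perm V} (hg : g ∈ Semi K V)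
    (hg1 : ∀ v, g (e1 v) = e1 (g v)) (hgX : ∀ v, g (β 0 v • γ • b0) = β 0 (g v) • γ • b0)
    (hgY : ∀ v, g (Y v) = Y (g v)) :
    (∀ (a : K) v, g (a • v) = a • g v) ∧ ∃ c : Kˣ, (∀ v, β 0 (g v) = c * β 0 v) ∧
      ∀ v, g (e1 v) = (c : K) • e1 v := by
  obtain ⟨hga, σ, hσ⟩ := hg
  have hg0 : g 0 = 0 := by
    have := hga 0 0
    rw [add_zero] at this
    exact left_eq_add.1 this
  have hb : b0 ≠ 0 := fun h0 => one_ne_zero (h.h0.symm.trans (by rw [h0, map_zero]))
  set c := β 0 (g b0) with hc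
  have a1 : σ γ • g b0 = c • γ • b0 := by
    have := hgX b0
    rwa [h.h0, one_smul, hσ] at this
  have hc0 : c ≠ 0 := by
    intro h0
    rw [h0, zero_smul, smul_eq_zero] at a1
    rcases a1 with a1 | a1
    · exact hγ0 (by simpa using a1)
    · exact hb (g.injective (a1.trans hg0.symm))
  have a2 : σ γ = γ := by
    have := congrArg (β 0) a1
    rw [map_smul, map_smul, map_smul, h.h0, ← hc, smul_eq_mul, smul_eq_mul, smul_eq_mul, mul_one, mul_comm] at this
    exact mul_left_cancel₀ hc0 this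
  have hσ1 := hγ σ a2
  have hgl : ∀ (a : K) v, g (a • v) = a • g v := fun a v => by rw [hσ, hσ1]
  have a3 : g b0 = c • b0 := by
    rw [a2, smul_comm] at a1
    exact smul_right_injective V hγ0 a1
  have a4 : ∀ i v, β i (g v) = c * β i v := by
    intro i
    induction i with
    | zero =>
      intro v
      have := congrArg (β 0) (hgX v)
      rw [hgl, hgl, a3, map_smul, map_smul, map_smul, map_smul, map_smul, h.h0] at this
      simp only [smul_eq_mul, mul_one] at this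
      have h2 : γ * β 0 (g v) = γ * (c * β 0 v) := by
        rw [mul_comm γ, ← this]
        ring
      exact mul_left_cancel₀ hγ0 h2
    | succ i ih =>
      intro v
      rw [← h.hβY, ← hgY, ih, h.hβY]
  refine ⟨hgl, Units.mk0 c hc0, a4 0, fun v => ?_⟩
  rw [← sub_eq_zero]
  have h2 := h.hco (g (e1 v) - c • e1 v) (fun i => by
    rw [map_sub, a4, map_smul, smul_eq_mul, sub_self])
  have he' : ∀ v, e1 (e1 v) = e1 v := fun v => LinearMap.congr_fun he v
  rw [map_sub, map_smul, ← hg1, he'] at h2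
  exact h2

end rigid

section main

variable {K : Type u} [Field K] {V : Type v} [AddCommGroup V] [Module K V]

theorem gen_rigid (K : Type u) [Field K] [Finite K] : ∃ γ : K, γ ≠ 0 ∧ ∀ σ : K ≃+* K, σ γ = γ → ∀ a, σ a = a := by
  obtain ⟨γ, hγ⟩ := IsCyclic.exists_generator (α := Kˣ)
  refine ⟨γ, γ.ne_zero, fun σ hσ a => ?_⟩
  by_cases ha : a = 0
  · rw [ha, map_zero]
  obtain ⟨k, hk⟩ := Subgroup.mem_zpowers_iff.1 (hγ (Units.mk0 a ha))
  have h1 : a = ((γ ^ k : Kˣ) : K) := by rw [hk]; rfl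
  rw [h1, Units.val_zpow_eq_zpow_val, map_zpow₀, hσ]

variable (J Y : R K V) (β : ℕ → V →ₗ[K] K) (b0 : V) (γ : K) (u : Fin 3 → V)

/-- the nilpotent elements `N_l = R_l + Q_l` -/
def Nl (e1 J Y : R K V) (β : ℕ → V →ₗ[K] K) (b0 : V) (γ : K) (u : Fin 3 → V) (i : Fin 3) : R K V :=
  (![e1, (β 0).smulRight (γ • b0), Y] i) * J + ((β 0) ∘ₗ J).smulRight (u i)

variable {e1 e2 e3 J L Y : R K V} {β : ℕ → V →ₗ[K] K} {b0 : V} {γ : K} {u : Fin 3 → V}

theorem Nl_e3 (h : Idm e1 e2 e3 J L) (i : Fin 3) : Nl e1 J Y β b0 γ u i * e3 = Nl e1 J Y β b0 γ u i := by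
  rw [Nl, add_mul, mul_assoc, h.hJ3]
  congr 1
  ext v
  change β 0 (J (e3 v)) • u i = β 0 (J v) • u i
  rw [← Module.End.mul_apply, h.hJ3]

theorem e1_Nl (h : Idm e1 e2 e3 J L) (hsh : Shift e1 β b0 Y) (hu : ∀ i, e2 (u i) = u i) (i : Fin 3) :
    e1 * Nl e1 J Y β b0 γ u i = (![e1, (β 0).smulRight (γ • b0), Y] i) * J := by
  have h1 : e1 * (![e1, (β 0).smulRight (γ • b0), Y] i) = ![e1, (β 0).smulRight (γ • b0), Y] i := by
    fin_cases i
    · exact h.h11
    · ext v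
      change e1 (β 0 v • γ • b0) = β 0 v • γ • b0
      rw [map_smul, map_smul, hsh.hb0]
    · exact hsh.h1Y
  have h2 : e1 * ((β 0) ∘ₗ J).smulRight (u i) = 0 := by
    ext v
    change e1 (β 0 (J v) • u i) = 0
    rw [map_smul, ← hu i, ← Module.End.mul_apply, h.h12, LinearMap.zero_apply, smul_zero]
  rw [Nl, mul_add, ← mul_assoc, h1, h2, add_zero]

theorem e2_Nl (h : Idm e1 e2 e3 J L) (hsh : Shift e1 β b0 Y) (hu : ∀ i, e2 (u i) = u i) (i : Fin 3) :
    e2 * Nl e1 J Y β b0 γ u i = ((β 0) ∘ₗ J).smulRight (u i) := by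
  have h0 : e1 * (![e1, (β 0).smulRight (γ • b0), Y] i) = ![e1, (β 0).smulRight (γ • b0), Y] i := by
    fin_cases i
    · exact h.h11
    · ext v
      change e1 (β 0 v • γ • b0) = β 0 v • γ • b0
      rw [map_smul, map_smul, hsh.hb0]
    · exact hsh.h1Y
  have h2 : e2 * ((β 0) ∘ₗ J).smulRight (u i) = ((β 0) ∘ₗ J).smulRight (u i) := by
    ext v
    change e2 (β 0 (J v) • u i) = β 0 (J v) • u i
    rw [map_smul, hu i]
  rw [Nl, mul_add, ← h0, ← mul_assoc, ← mul_assoc, h.h21, zero_mul, zero_mul, h2, zero_add]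

theorem e3_Nl (h : Idm e1 e2 e3 J L) (hsh : Shift e1 β b0 Y) (hu : ∀ i, e2 (u i) = u i) (i : Fin 3) :
    e3 * Nl e1 J Y β b0 γ u i = 0 := by
  have h1 : Nl e1 J Y β b0 γ u i = e1 * Nl e1 J Y β b0 γ u i + e2 * Nl e1 J Y β b0 γ u i := by
    rw [e1_Nl h hsh hu, e2_Nl h hsh hu, Nl]
  rw [h1, mul_add, ← mul_assoc, ← mul_assoc, h.h31, h.h32, zero_mul, add_zero]

theorem Nl_sq (h : Idm e1 e2 e3 J L) (hsh : Shift e1 β b0 Y) (hu : ∀ i, e2 (u i) = u i) (i : Fin 3) :
    -Nl e1 J Y β b0 γ u i * -Nl e1 J Y β b0 γ u i = 0 := by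
  have h1 : Nl e1 J Y β b0 γ u i * Nl e1 J Y β b0 γ u i =
      Nl e1 J Y β b0 γ u i * e3 * Nl e1 J Y β b0 γ u i := by rw [Nl_e3 h]
  rw [neg_mul_neg, h1, mul_assoc, e3_Nl h hsh hu, mul_zero]

theorem det_un [Finite K] {N : R K V} (h : N * N = 0) : LinearMap.det ((un N h : (R K V)ˣ) : R K V) = 1 :=
  det_one_add h

theorem five_flag [Finite K] (S : Subgroup (Equiv.Perm (R K V))) (hS : S ≤ RA K V)
    (hSN : ∀ f ∈ RP K V, ∃ g ∈ Semi K V, ∀ (X : R K V) (v : V), f X (g v) = g (X v))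
    (h : Idm e1 e2 e3 J L) (hsh : Shift e1 β b0 Y)
    (hY2 : e2 = 0 → ∃ v, β 0 (Y v) ≠ 0)
    (hSt : ∀ f ∈ S, f ∈ RP K V → St e1 e3 f) (hCo : ∀ f ∈ S, f ∉ RP K V → Co e1 e3 f)
    (hu : ∀ i, e2 (u i) = u i) (hu0 : e2 ≠ 0 → u 0 ≠ 0)
    (hbase : ∀ f ∈ S, f ∈ RP K V → ∀ g ∈ Semi K V, (∀ (X : R K V) (v : V), f X (g v) = g (X v)) →
      (∀ v, g (e1 v) = e1 (g v)) → (∀ v, g (e2 v) = e2 (g v)) → (∀ i, g (u i) = u i) → ∀ v, g (e2 v) = e2 v) :
    Five S := by
  obtain ⟨γ, hγ0, hγ⟩ := gen_rigid K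
  let N : Fin 3 → R K V := Nl e1 J Y β b0 γ u
  have hNN : ∀ i, -N i * -N i = 0 := Nl_sq h hsh hu
  have hN3 : ∀ i, N i * e3 = N i := Nl_e3 h
  have h3N : ∀ i, e3 * N i = 0 := e3_Nl h hsh hu
  have h1N : ∀ i, e1 * N i = (![e1, (β 0).smulRight (γ • b0), Y] i) * J := e1_Nl h hsh hu
  have h2N : ∀ i, e2 * N i = ((β 0) ∘ₗ J).smulRight (u i) := e2_Nl h hsh hu
  -- a vector with `ε = 1`
  have hε : β 0 (J (L b0)) = 1 := by
    rw [← Module.End.mul_apply, h.hJL, hsh.hb0, hsh.h0]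
  refine ⟨Fin.cons h.x (fun i => h.x * un (-N i) (hNN i)), ?_, ?_⟩
  · have hx : LinearMap.det ((h.x : (R K V)ˣ) : R K V) = 1 := by
      rw [Idm.x, Units.val_mul, Units.val_mul, map_mul, map_mul, det_un, det_un, mul_one, mul_one]
    intro i
    refine Fin.cases ?_ (fun i => ?_) i
    · exact hx
    · rw [Fin.cons_succ, Units.val_mul, map_mul, hx, det_un, mul_one]
  · intro f hf hi
    have hi0 : cj K V h.x * f * (cj K V h.x)⁻¹ ∈ S := hi 0
    have hi' : ∀ i, cj K V (h.x * un (-N i) (hNN i)) * f * (cj K V (h.x * un (-N i) (hNN i)))⁻¹ ∈ S :=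
      fun i => hi i.succ
    by_cases hfP : f ∈ RP K V
    · obtain ⟨f1, f2, f3⟩ := step1 h h.xu hfP (hSt f hf hfP) (hSt _ hi0 (conj_RP _ hfP))
      have fN : ∀ i, f (N i) = N i := fun i =>
        step2 h h.xu hfP f3 (hN3 i) (h3N i) (hNN i) (hSt _ (hi' i) (conj_RP _ hfP))
      obtain ⟨g, hg, hgf⟩ := hSN f hfP
      have hc : ∀ Z : R K V, f Z = Z → ∀ v, g (Z v) = Z (g v) := fun Z hZ v => by rw [← hgf, hZ]
      have g1 := hc e1 f1
      have g2 := hc e2 f2
      have g1N : ∀ i v, g ((![e1, (β 0).smulRight (γ • b0), Y] i) (J v)) =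
          (![e1, (β 0).smulRight (γ • b0), Y] i) (J (g v)) := by
        intro i
        have := hc (e1 * N i) (by rw [hfP.2, f1, fN])
        rwa [h1N] at this
      have gJ : ∀ v, g (J v) = J (g v) := by
        intro v
        have := g1N 0 v
        change g (e1 (J v)) = e1 (J (g v)) at this
        rwa [← Module.End.mul_apply e1, ← Module.End.mul_apply e1, h.h1J] at this
      have g1N' : ∀ i v, g ((![e1, (β 0).smulRight (γ • b0), Y] i) (e1 v)) =
          (![e1, (β 0).smulRight (γ • b0), Y] i) (e1 (g v)) := by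
        intro i v
        have h6 : ∀ w, e1 w = J (L w) := fun w => by rw [← Module.End.mul_apply, h.hJL]
        rw [← g1 v, h6 v, g1N, gJ]
      have hYe : ∀ v, Y (e1 v) = Y v := by
        intro v
        have h5 := hsh.hco (Y (e1 v) - Y v) (fun i => by
          rw [map_sub, hsh.hβY, hsh.hβY, hsh.hβ1, sub_self])
        have h6 : ∀ w, e1 (Y w) = Y w := fun w => LinearMap.congr_fun hsh.h1Y w
        rwa [map_sub, h6, h6, sub_eq_zero] at h5
      obtain ⟨hgl, c, hc0, hc1⟩ := rigid hsh h.h11 hγ0 hγ hg g1 (fun v => by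
        have := g1N' 1 v
        change g (β 0 (e1 v) • γ • b0) = β 0 (e1 (g v)) • γ • b0 at this
        rwa [hsh.hβ1, hsh.hβ1] at this) (fun v => by
        have := g1N' 2 v
        change g (Y (e1 v)) = Y (e1 (g v)) at this
        rwa [hYe, hYe] at this)
      have hc3 : ∀ v, g (e3 v) = (c : K) • e3 v := by
        intro v
        have h5 : J (g (e3 v)) = (c : K) • J (e3 v) := by
          rw [← gJ]
          have := hc1 (J (e3 v))
          rwa [← Module.End.mul_apply e1, h.h1J] at this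
        have h6 := congrArg L h5
        rw [map_smul, ← Module.End.mul_apply, ← Module.End.mul_apply, h.hLJ, ← Module.End.mul_apply, h.h33,
          ← hc e3 f3, ← Module.End.mul_apply, h.h33] at h6
        exact h6
      have hcu : ∀ i, g (u i) = (c : K) • u i := by
        intro i
        have h5 := hc (e2 * N i) (by rw [hfP.2, f2, fN]) (L b0)
        rw [h2N] at h5
        change g (β 0 (J (L b0)) • u i) = β 0 (J (g (L b0))) • u i at h5
        rwa [← gJ, hc0, hε, one_smul, mul_one] at h5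
      -- normalize
      have hk : (hm K V c⁻¹ * g) ∈ Semi K V := by
        refine mul_mem ⟨fun v w => smul_add _ _ _, RingEquiv.refl K, fun a v => ?_⟩ hg
        exact smul_comm _ _ _
      have hk0 : ∀ v, (hm K V c⁻¹ * g) v = ((c⁻¹ : Kˣ) : K) • g v := fun v => rfl
      have hcc : ((c⁻¹ : Kˣ) : K) * (c : K) = 1 := by rw [← Units.val_mul, inv_mul_cancel, Units.val_one]
      have hc2 : ∀ v, g (e2 v) = (c : K) • e2 v := by
        intro v
        have h5 := hbase f hf hfP _ hk (fun X v => by rw [hk0, hk0, map_smul, hgf])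
          (fun v => by rw [hk0, hk0, map_smul, g1]) (fun v => by rw [hk0, hk0, map_smul, g2])
          (fun i => by rw [hk0, hcu, smul_smul, hcc, one_smul]) v
        rw [hk0] at h5
        have h6 : (c : K) • e2 v = (c : K) • (((c⁻¹ : Kˣ) : K) • g (e2 v)) := by rw [h5]
        rw [h6, smul_smul, ← Units.val_mul, mul_inv_cancel, Units.val_one, one_smul]
      have hg' : ∀ v, g v = (c : K) • v := by
        intro v
        have h5 : v = e1 v + e2 v + e3 v := by
          have := LinearMap.congr_fun h.hs v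
          exact this.symm
        have h6 : g v = g (e1 v + e2 v + e3 v) := by rw [← h5]
        rw [h6, hg.1, hg.1, hc1, hc2, hc3, ← smul_add, ← smul_add, ← h5]
      refine Equiv.ext fun X => ?_
      change f X = X
      ext v
      have h5 := hgf X v
      rw [hg', hg', map_smul] at h5
      exact smul_right_injective V c.ne_zero h5
    · exfalso
      have ha := anti_mul hS hf hfP
      have h0 := (hS hf).1
      obtain ⟨f1, f2, f3⟩ := step1' h h.xu h0 ha (hCo f hf hfP) (hCo _ hi0 (conj_not _ hfP))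
      have fN : ∀ i, f (N i) = -(e1 * N i) ∧ e2 * N i = 0 := fun i =>
        step2' h h.xu h0 ha f2 f3 (hN3 i) (h3N i) (hNN i) (hCo _ (hi' i) (conj_not _ hfP))
      by_cases he2 : e2 = 0
      · have f0 : f 0 = 0 := add0 h0
        have hN : ∀ i, N i = (![e1, (β 0).smulRight (γ • b0), Y] i) * J := by
          intro i
          have h5 : N i = e1 * N i + e2 * N i + e3 * N i := by rw [← add_mul, ← add_mul, h.hs, one_mul]
          rw [h5, (fN i).2, h3N, add_zero, add_zero, h1N]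
        have fR : ∀ i, f ((![e1, (β 0).smulRight (γ • b0), Y] i) * J) =
            -((![e1, (β 0).smulRight (γ • b0), Y] i) * J) := by
          intro i
          rw [← hN, (fN i).1, h1N, hN]
        have fneg : ∀ Z, f (-Z) = -f Z := by
          intro Z
          rw [eq_neg_iff_add_eq_zero, ← h0, neg_add_cancel, f0]
        have fJ : f J = -J := by
          have := fR 0
          change f (e1 * J) = -(e1 * J) at this
          rwa [h.h1J] at this
        have fL : f L = -L := by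
          have h5 : f L * f J = e3 := by rw [← ha, h.hJL, f1]
          have h6 : f L * e1 = f L := by rw [← f3, ← ha, h.h3L]
          rw [← h6, ← h.hJL, ← mul_assoc, ← neg_neg J, ← fJ, mul_neg, h5, neg_mul, h.h3L]
        have fX := fR 1
        have fY := fR 2
        change f ((β 0).smulRight (γ • b0) * J) = -((β 0).smulRight (γ • b0) * J) at fX
        change f (Y * J) = -(Y * J) at fY
        have hX1 : (β 0).smulRight (γ • b0) * e1 = ((β 0).smulRight (γ • b0) : R K V) := by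
          ext v
          change β 0 (e1 v) • γ • b0 = β 0 v • γ • b0
          rw [hsh.hβ1]
        have hYX : Y * (β 0).smulRight (γ • b0) = 0 := by
          ext v
          change Y (β 0 v • γ • b0) = 0
          rw [map_smul, map_smul, hsh.hYb, smul_zero, smul_zero]
        have h5 : f ((β 0).smulRight (γ • b0) * J * L * (Y * J)) = 0 := by
          rw [ha ((β 0).smulRight (γ • b0) * J * L) (Y * J), ha ((β 0).smulRight (γ • b0) * J) L, fX, fY, fL]
          have : -(Y * J) * (-L * -((β 0).smulRight (γ • b0) * J)) =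
              -(Y * (J * L) * (β 0).smulRight (γ • b0) * J) := by noncomm_ring
          rw [this, h.hJL, mul_assoc Y e1]
          have h6 : e1 * (β 0).smulRight (γ • b0) = ((β 0).smulRight (γ • b0) : R K V) := by
            ext v
            change e1 (β 0 v • γ • b0) = β 0 v • γ • b0
            rw [map_smul, map_smul, hsh.hb0]
          rw [h6, hYX, zero_mul, neg_zero]
        have h7 : (β 0).smulRight (γ • b0) * J * L * (Y * J) = (0 : R K V) := f.injective (h5.trans f0.symm)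
        rw [mul_assoc _ J L, h.hJL, hX1] at h7
        obtain ⟨v, hv⟩ := hY2 he2
        have h8 := LinearMap.congr_fun h7 (L v)
        change β 0 (Y (J (L v))) • γ • b0 = 0 at h8
        rw [← Module.End.mul_apply J, h.hJL, hsh.hβY, hsh.hβ1, ← hsh.hβY, smul_eq_zero, smul_eq_zero] at h8
        rcases h8 with h8 | h8 | h8
        · exact hv h8
        · exact hγ0 h8
        · exact one_ne_zero (hsh.h0.symm.trans (by rw [h8, map_zero]))
      · have h5 := (fN 0).2
        rw [h2N] at h5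
        have h6 := LinearMap.congr_fun h5 (L b0)
        change β 0 (J (L b0)) • u 0 = 0 at h6
        rw [hε, one_smul] at h6
        exact hu0 he2 h6

end main

end Cfsg.Agent.H923.FC
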